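set_option autoImplicit false
namespace Cfsg.Agent.Lib.Helper6.TCD.O73a
noncomputable def GT (i : Nat) : Nat := Nat.land (Nat.shiftRight 0x16820016330016230015f30015e30015c30015b30015a30015820015640015530015330015310015120014e60014d40014b20014820014620014560014440014350014140013f10013e20013c20013b60013820013660013640013550013120013060012f40012c20012b60012920012860012840012650012620012440012350012210012120012060011e20011d60011d40011c30011b20011a60011960011950011920011760011640011420011360011340011150011040010e20010d60010d40010b60010a60010a5001095001093001074001055001052001032001026001024001006000ff6000ff5000fe2000fd6000fd5000fd3000fa6000fa4000f85000f66000f56000f55000f35000f33000f15000ef6000ee6000ee5000eb6000eb5000eb3000ea4000e84000e65000e55000e53000e36000e26000e25000df6000df5000df3000de6000de4000dc6000db6000db5000d95000d93000d66000d65000d63000d55000d44000d25000d23000cf6000cf5000cf3000ce5000cd6000cd4000cd1000cb6000c75000c55000c53000c44000c16000c15000c13000c05000bf6000bf4000bf1000bc6000bc5000bc3000bb5000ba4000b85000b76000b74000b64000b62000b45000b34000b15000b06000b04000af4000af2000ab6000ab5000aa5000a85000a65000a63000a55000a44000a41000a25000a16000a14000a04000a020009e50009d60009d40009c40009c20009b50009a40009a20009930009850009740009720009650009540009520009430009150008f50008e60008e40008d40008c50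008b40008950008840008740008720008650008540008520008430008350008240008220008130008040007f30007f00007e40007d30007c40007b30007b00007a60007850007740007650007540007520007430007340007230007150007040007020006f30006e40006d30006d00006c40006b30006b00006a30006a10006930006910006830006810006720006350006240006130006040005f30005f00005e30005e10005d40005c30005c00005b30005b10005a30005a10005920005820005720005330005300005210005150005040004f30004f00004e30004e10004d20004c30004c10004b20004a20004960004860004760004400004200004130004110004020003f40003e30003e10003d20003c60003b20003a60003960003870003770003670003500003430003410003320003210003120003060002f30002e20002d60002c70002b60002a70002970002960002950002930002810002720002660002520002460002370002220002160002070002050001f70001f60001f40001e20001d60001c70001a60001970001950001860001770001740001720001560001470001450001360001270001240001170001130001060000f70000f40000d70000d30000d10000b70000b30000a70000a2000087000082000076000067000056000050000046000041000032000023000014000005000000 (Nat.mul 24 (Nat.land i 1023))) 16777215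
end Cfsg.Agent.Lib.Helper6.TCD.O73a
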