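set_option autoImplicit false
namespace Cfsg.Agent.Lib.Helper6.TCD.O73a
noncomputable def HR (i : Nat) : Nat := Nat.land (Nat.shiftRight 0xc220000c620000c320000b520000b320000b620000b320000b320000b620000b420000a320000a320000a520000a220000a520000a620000a420000a420000a620000a620000a420000a22000094200009520000922000092200009520000922000095200009620000962000092200009420000962000092200009420001721000096200009620000932000172100008420000822000161100008220000852000162100008520000862000163100016210000852000165100008620001621000084200008420001621000083200008620000862000084200016210000832000084200008620001651000086200008020001631000074200007320001521000152100007520000762000075200015510000762000152100015510000762000153100007320000742000073200007120001551000076200007620001531000073200007120001551000073200015510000762000153100015410000642000063200006120001431000065200014510000662000145100006620001431000145100014410000622000145100006320000622000143100014510000662000143100006620001441000062200015310001451000061200014310000662000145100014410001411000055200005320000522000133100013410001351000056200013310000562000135100013410001311000135100005220001331000055200013410000562000135100013410001341000132100005520001441000051200013510001341000134100013210001251000042200004320000442000042200012310000452000124100012110000462000125100012410001241000122100004520001251000124100012410001221000046200012410001221000123100004520001341000132100004220001241000122100012310000302000033200011510001141000114100003420001241000035200011410001141000112100003620001141000112100011310000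3520001141000112100011310001141000113100011010001241000123100011410001131000110100010510000212000104100002320001041000102100010310001341000112100002520001041000102100010310001041000103100010010001041000103100010010001031000101100011310001111000103100010110000f2100001220000f410000f310000f410000f310000f01000123100010210000f410000f310000f010000f310000f110000f310000f110000f2100010210000f210000e310000e010000f3100000020000e410000e310000e010000e310000e1100011210000e310000e110000e210000e210000e510000f510000e510000d010000d010000d310000d110000e310000d410000d310000d110000d2100010510000d210000d510000d510000d610000e610000d610000c010000c310000c110000d310000c110000c210000f210000c310000c210000c510000f610000c510000c610000c610000c510000d510000c310000b110000b210000e210000b210000b5100010610000b210000b510000b610000e210000b610000b510000b410000a210000a510000f510000a510000a610000f110000a510000a610000a410000a210000951000096100010010000951000096100009410000961000093100008510000861000084100008610000831000081100007610000731000076100007210000661000062100006510000561000055100005010000451000041100003210000231000014100000010000000 (Nat.mul 28 (Nat.land i 1023))) 268435455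
end Cfsg.Agent.Lib.Helper6.TCD.O73a
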