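set_option autoImplicit false
namespace Cfsg.Agent.Lib.Helper6.TCD.O73a
noncomputable def P0 (i : Nat) : Nat := Nat.land (Nat.shiftRight 0xb5d92cb68b059ad36aad56ec367afd4ebb5cb158e9348a5d32ab54af4fe7d50a7d3a9b56abcc2b35896cb257319950a8340a95464521904ea73389bcda6b2e8bd0e894a89cd28f46a2c3e1d0d8ac52112491cf6793b8240e051c8dc6a331099bea4f2697bd9eb18954a650f077bb9ef257441a0b1f8f475c8e3713f9faf278c59b8db84c4a22d86b3f1f70c85c29a2d067b5da7076431dcb01803fd86c260b79a4f97c2f978f4753cd70b774b75daec75ac560b464ab596e77329d4cc470b81bea250b6966d94f27572d56a2696acc5eac99ccd4aa4994975423d52ab63315128851b017e854faed74824dad8fe98562595e7b3eab8f0905522cea8c472294aa438219406d41a70d6804c9f9267c4a1c8f291311d91a5f399e8e2872e1b9086c409a8d2683294cce64319dc9e603a178ba6f2d968b2582b91084453310ca250309389a4c259289248238d4a8562915468331f8f87a3c1d8e872381b8d88c41200a04e26178b85a2c158a85232188c03c1d0e08842200f89448230b05428180b86c34190803c221309030160e06820120a028180e04018080200 (Nat.mul 9 (Nat.land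 i 511))) 511
end Cfsg.Agent.Lib.Helper6.TCD.O73a
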