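set_option autoImplicit false
namespace Cfsg.Agent.Lib.Helper6.TCD.O73a
noncomputable def P1 (i : Nat) : Nat := Nat.land (Nat.shiftRight 0xb5d9ad360b3daac364ae58acb68a9d7aa363aad6a9b4aa2d5ab73fafd4abb509e4eeb34199d6293349acbeaf28a1c969922aa4fa7b4fa74ea731f8f4768f48a5c8e2d2ea34c25b188bc4a234485c2a85079950243209c4de6d1c80c01ff2c95cc5f2f8884aa53137e3edf4f393c99d7089239dcd0481c0a371a8cb81bf0f874362b146cbc9e2f4863d9eadd6e36ddad484b35d2e8834158ae471b89c2fe7eafde0ef77369eeb95d349aaec5ab5964bd5e339d4cc65b2952c863b19caa451b0982c06f27da0cf5db5db09b59ad9a6985bb452c9d57ab920ac55aa9928c452994ac461a1942a05f20d609c5c20132b43f2c4f894499e522ad3b2391aa839a9ce28843a88dc844f1b1029a3525cd295341e924633ba3cc07445979125d37a14b6822d1fcfa7b2a158a4643c140c275271c8e04c369acb2582b9988c6720994a2621f17c805c259289248239548634228c8a64d1f93c62301d8e872381b8d85044199087a3c178944823158a85235138985c2d1606c34190f8783a1c110844013090582a140c05c1a10078382209058281806038200805018080200 (Nat.mul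 9 (Nat.land i 511))) 511
end Cfsg.Agent.Lib.Helper6.TCD.O73a
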