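set_option autoImplicit false
namespace Cfsg.Agent.Lib.Helper6.TCD.O73a
noncomputable def P2 (i : Nat) : Nat := Nat.land (Nat.shiftRight 0xb45a6d56bb3d9ac965ac55ec360afd46bb4ea5d228d63b151285549f4f2bd38a7d726d31adcee595a94d668b5693556494090d4e3d52a54ea37509bd36333492c5299208ecba1d4995caa8f2893d0e674182c0e7f308fcf65efe9cc6a6b188441e2b32813d1ff1087cb61b0c76c2a13178b41a47049144e02e188c71fae97dba1b4e67bb61c5126ab4de2f068bba16ec673a9f8fa633e1cae461bd600e06037998be63be576f66bae1e6b6792d1ded058bad5edd56b2594a76db9d4ac471b0944df50371589e6ca716ad64d35172d24ba7d9e9566ab996bd47aa152aa642258a8751b050abf592f104ba4c2dd329b59a0d609449a492290559d5168c46a294c705221942844b275027e3fa00fa6c3d99cc8783b9d91c6639994e288379b8da7c35964b0573d1d0e47928988aa6029934ba5c25928d46934158c2542f900c63f210f4bc3b2d968923c239188a441993c6252280b89c48260e85a38160d86a27218948230110f87237108a8401e1a0986424118bc56290b8a03a1c0d86832180f8582a1407048220c0784c141004034120b038180a03020080200 (Nat.mul 9 (Nat.land i 511))) 511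
end Cfsg.Agent.Lib.Helper6.TCD.O73a
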