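set_option autoImplicit false
namespace Cfsg.Agent.Lib.Helper6.TCD.O73a
noncomputable def P3 (i : Nat) : Nat := Nat.land (Nat.shiftRight 0xb5d8ec55faf572b75ab55a6ab53b459ebb66b2d92b357ac55ac354b054aa3509c53a9b4ca4516934ba3caa9527a1d0a83409fcfa7b1f9dc72734f8dc6a6b339a4ca2b2b8945e5b0f9851a190ba24264b0691c8a09209e406013a9bcd9fafc973e662f77b4bde6f2963c1df29943ae4d0873c91cb217238e3d1d6fbfa33186eb722cd98a44dace188c41a50e86b3ddaec853a9d2c883b160b0381305e8e07fb79f6fa5e319f0c36bbd580d469bc5a2d0773399acc65ab992e853369ccc46c309c4d55fa9d7adb52ae946a25ba656ab459ac962b04a329249355a4552a85f31d76a45cae14284452253a81431fd6c983ea58f6af562b554793c1e8e88c3927d3c8837a6cdaa0389ad386a4d1a52e684aa39208f3098cbe8d2f22d065c4396d0a5a41200fc7c29994cc643b13cee4e3a9cc9870371b0b05925148aa4133958a23e311809a5d2595c90491c918684322108a840179407a3c1d8e88e371c0a46a45198c862301f8885a2c158a86c28138983624118b830200f8583a1c1284c32210887820140d0342e1505838240c078281208038180a040100c0200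 (Nat.mul 9 (Nat.land i 511))) 511
end Cfsg.Agent.Lib.Helper6.TCD.O73a
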