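set_option autoImplicit false
namespace Cfsg.Agent.Lib.Helper6.TCD.O73a
noncomputable def P5 (i : Nat) : Nat := Nat.land (Nat.shiftRight 0xb5daad368b3d9acb64b1d8ac360afd7abb5cadd6a8f58abd0eab40a9cf6a3399bd3a6b32a5d2a5b48acca68b26ab50a4754914faa51e9dceaa11ba7c669b3499d32293088cba930e95c328d0a84d124b05a0cfe072080cf1ff1c9c3f66cfb8bbe1ef317abce5ef1784b1dd2a75ca24f087339648e490b8a3edf8ebfa34dd8c36db3168ab5a26d58934a210f67c359cea85bb198c762c1e0d0460c0980e080379f8bc7d2edf2b8683d9e8cd5a3c962d777bb5a8e955aa950a674295cec451309c6e15fa7974dc6d2f536d8582bd30d34ea59a2b75b2451e9c65b2918c944b218ca44330d42a041af966ac5ca5528b5412c93499409e15c7656a351ca93a9c54e8843a8d0a844fa5d267c3d9b0d6803f9d0c6923ba41167a3017d1470379b8da7e3e9a0b46a3319ca6513c988c27339138ba5c2d9a4ae4a2c950aa5632904c850279787a4c259608e392491888451a108a4311f8f89a2d1d8e89036148e06a43138c88024178b87820158a86e28198744a300c888422c0f8784c140d86846180b8582a1c098482210078381a0c058281208038180a04018080001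 (Nat.mul 9 (Nat.land i 511))) 511
end Cfsg.Agent.Lib.Helper6.TCD.O73a
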