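set_option autoImplicit false
namespace Cfsg.Agent.Lib.Helper6.TCD.O73a
noncomputable def P6 (i : Nat) : Nat := Nat.land (Nat.shiftRight 0xb5daacf61b4d9ac164b1d7ad165aad8a9d5ca9d6ab345a554abf41add5a77509b5769b3f9855e932ba3ca2b12f9ed0aa923a6482871da8cea731a8cd3e6b179748a274ba24ce5b0da442e1546894464b24a04ca053e803fe791c7ece26efa9a441ecf598c9e4d1677bba58eb954a5e70883c1a0ae371485bf1f8f37a36dc6dc61e4f16b45628f484be5f0cf87c39dacd8635196e873b99cac18240dc2bf80bf978fc7db29a4d85bbddaaea64b65a2b078339d8ab74b69a6c863ab98ac461a85c8c0702b53add552cd72b86bad952a85d2c962d057b197c8e662ed6ab44929922a451a8984a04823d7a8d4da69328c45a592a943d29d4a9f4f2b138984b9e4f0883ba190a843b1d4e8803f9cce47c3da4d148943a0d04813f1f4c662309b8da602f9a8bc6833998ca64389c0de6c359a4a04f2d938924823958aa5429948a25d2e168783e1d0e4b2582b9188a442190882301f9305a4d1592c94291b0dc6a34130c84840178847a2c1d87c70280e8cc3431118605c20150544e1c0989432220b8403c140d8482216078381a0c0581c1205050101006018080200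 (Nat.mul 9 (Nat.land i 511))) 511
end Cfsg.Agent.Lib.Helper6.TCD.O73a
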