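set_option autoImplicit false
namespace Cfsg.Agent.Lib.Helper6.TCD.O73a
noncomputable def P7 (i : Nat) : Nat := Nat.land (Nat.shiftRight 0xb5d96c968b3d86d569add6acd60afd7abb55b1d8a994ba4526b954a9d4aa350a7d0a8359ac4cead57994c6692c96d3a9b409fcfa7b3c92cea73389bc924745a551e8d178b4ae874497456291887c3a77369ac8a43088fc7a0f1c8dc1a0b28984be55297d3e5f10d93c9a20f77e3ede1208ec6a330481ba202e7733f9cb0b8544e251186371b6da6cbbddd09793c5d2d76eb41db02803fdfae46431d8ce062b11d6f67abd1e6be762f176ba68b3da6ea693317ace65b2992e371385bede53b094ca5523619ad66ab513e9e4ea7164b1582d568b3562b95aaf55aa952a861b0580bf4522510875cae16eb641a0902964aa612e934a249229047a391a8c45a8d44a1501c4e06f4da69326c359f0f67e3e9e8f2783b9d8ea74399c90c8542174b8803f968d06933998ca6431988c2602f978dc6d261a894572c158aa5429948a250279389a5b1d96470371b1188a442190882401f8f87a2c258a852492411c6a34198c86223178b8403c0f8e87228138704a19180882e2d1587828260d8484811108581e1d06868300b0a8282608080380c0c038240a04018080200 (Nat.mul 9 (Nat.land i 511)))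 511
end Cfsg.Agent.Lib.Helper6.TCD.O73a
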