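set_option autoImplicit false
namespace Cfsg.Agent.Lib.Helper6.TCD.O73a
noncomputable def Q36 (i : Nat) : Nat := Nat.land (Nat.shiftRight 0x83c429f4d743ea2d36a34863166a4c92d544944094f41ab2fa5ee7b2542b363844fda692aa5855b52384e2d2f24bd3192a492dae38c8b03968f4263b710567b418a3531aecb116f986c11fd1795276cafc3ab9ab91d832225ca682c9d673489d39c6de74cfa6ec685af55cc2abb6dd53c99c49755a9ab29895878ce5d94a7db2e411950ad5396281a290ed43c9dea65c931f6b6daa2be19b2d4823aab3a949ae22a946d79c4ef279b2869e8f9760072284896932322e5a29f5657e145f8ab14e72344c3d50609ea3e60b71bb4aa2e0154ed7e1f5e3d1c2dd1f9f1869a7b1fa8078a4340711ba5b5c6cd97a9ea191e37bfcc30979a8d5eed5005c588533cad60297ec3902e48a24dd6ab2f2ec98aa1f03d646e29ad8aa1c2110ddc7460a94b4cc34a31067642250d0d8400448865140d5224e38a61e0d67bb38fed52da592a2005914da6380b3c9a3317288a432230bd36b833050f6576f9283c3c130841a5409145623b1a2649647040e42a19119018058159a8443a029584a30430f490160c104141a138b42006039643a1b021246213060900203070240400 (Nat.mul 9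 (Nat.land i 511))) 511
end Cfsg.Agent.Lib.Helper6.TCD.O73a
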