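set_option autoImplicit false
namespace Cfsg.Agent.Lib.Helper6.TCD.O73a
noncomputable def Q37 (i : Nat) : Nat := Nat.land (Nat.shiftRight 0x91c8a8132b5cf68f357ac165b4371586d311854ddacf173395dcc17fd56cb4eb14a5e6eb933ee371e5bb498ec56236d9ea16fc66835b875426d3bab431a9038a336136a6ed91fd01b3aa966a648a91f0bc582fdfb6690531e11a8eb39d8e4b03ddaaeab1a3d7b5a60382bc8d3c220ef686caad3b396f57204b1684015ea26154d70d75b516b2763acae92a0a5548c674311850d5f542e91d1caed352ce34aa510b309fa6d35574cca0c05f8bc36b084979409e6e419c51342aa231167aa8cea9e7c3dcb8db13401fe97448593a66fa77d228d121f1453c5b361754a7092c90e6729f4f270689a441ec6a98c9c73166e4b2542b1d3307ebb4116898872e4220f062f4863e478c3c893157a3e5970f768b568ac17a70d62137909d0e724411c2fc6536192d11206864984ba4c30812995590ae61ab572a959054261d208a0fc7d339988c9251a40943d1d841d2da69950683534994ac313c95c5c38100a98cbe5a91488271e1484a19110dc2ea74f92c861e0a0c0361208a28b21f130581e0e06990b0290602c0e4d1b0240a401601066230007014080300c0401 (Nat.mul 9 (Nat.land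 i 511))) 511
end Cfsg.Agent.Lib.Helper6.TCD.O73a
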