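import Cfsg.Agent.Lib.Helper6.TC13
import Cfsg.Agent.Lib.Helper6.TCD.O73a.Par
set_option autoImplicit false
set_option maxRecDepth 1000000
set_option Elab.async false
open Cfsg.Agent.Lib.Helper6.TC
namespace Cfsg.Agent.Lib.Helper6.TCD.O73a
theorem chkR8_0 : chkFix R8 0 364 = true := by decide +kernel
theorem chkR9_0 : chkFix R9 0 364 = true := by decide +kernel
theorem chkR10_0 : chkFix R10 0 364 = true := by decide +kernel
theorem chkR11_0 : chkFix R11 0 364 = true := by decide +kernel
theorem chkR12_0 : chkFix R12 0 364 = true := by decide +kernel
theorem chkR13_0 : chkFix R13 0 364 = true := by decide +kernel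
theorem chkR14_0 : chkFix R14 0 364 = true := by decide +kernel
theorem chkR15_0 : chkFix R15 0 364 = true := by decide +kernel
theorem chkR16_0 : chkFix R16 0 364 = true := by decide +kernel
theorem chkR17_0 : chkFix R17 0 364 = true := by decide +kernel
theorem chkR18_0 : chkFix R18 0 364 = true := by decide +kernel
theorem chkR19_0 : chkFix R19 0 364 = true := by decide +kernel
theorem chkR20_0 : chkFix R20 0 364 = true := by decide +kernel
theorem chkR21_0 : chkFix R21 0 364 = true := by decide +kernel
theorem chkR22_0 : chkFix R22 0 364 = true := by decide +kernel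
theorem chkR23_0 : chkFix R23 0 364 = true := by decide +kernel
theorem chkR24_0 : chkFix R24 0 364 = true := by decide +kernel
theorem chkR25_0 : chkFix R25 0 364 = true := by decide +kernel
theorem chkR26_0 : chkFix R26 0 364 = true := by decide +kernel
theorem chkR27_0 : chkFix R27 0 364 = true := by decide +kernel
theorem chkR28_0 : chkFix R28 0 364 = true := by decide +kernel
theorem chkR29_0 : chkFix R29 0 364 = true := by decide +kernel
theorem chkR30_0 : chkFix R30 0 364 = true := by decide +kernel
theorem chkR31_0 : chkFix R31 0 364 = true := by decide +kernel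
theorem chkR32_0 : chkFix R32 0 364 = true := by decide +kernel
theorem chkR33_0 : chkFix R33 0 364 = true := by decide +kernel
theorem chkR34_0 : chkFix R34 0 364 = true := by decide +kernel
theorem chkR35_0 : chkFix R35 0 364 = true := by decide +kernel
theorem chkQ36_0 : chkEqF Q36 U36 0 364 = true := by decide +kernel
theorem chkR36_0 : chkFix R36 0 364 = true := by decide +kernel
theorem chkQ37_0 : chkEqF Q37 U37 0 364 = true := by decide +kernel
theorem chkR37_0 : chkFix R37 0 364 = true := by decide +kernel
end Cfsg.Agent.Lib.Helper6.TCD.O73a
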