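set_option autoImplicit false
namespace Cfsg.Agent.Lib.Helper6.TCD.O73a
noncomputable def P4 (i : Nat) : Nat := Nat.land (Nat.shiftRight 0xb5daad368b3d9acb64acd5ac360aa54a9f4da6526c746a258a835f9fd7a7950aecdab95b98cbeb52ca3d625157a1c92ab40a9c867b518ecea39389bd3a6b188b4ca9713a54425b4886c9e53459549a0f4291c8a7d028fc7a77397f46a33347d4ce1f149842e232e8ac3a56ec89429d4e892c1a0b0481c81c1007fc6dbcf97dc5df8f86bbbdeaed6a371e2d07b3b9e90c66c25b50873b9988c271b89c3015fbf57af26dba574d17badd6cf35f2cdb0f0582bdd6ac6532d5ac863b1948e561b9142a06fb4dba9d4e365649a6b3553e97692e52acf672b992cc47235208b53a210ec551a1582c05aa0978bb402e1087e5a1f1629449a48eea93aaad547354228e0a6529b9449936278de9b36a60fa963d9e8f262489811e61461c8ba8940a18fe832e16cd26833954ca64281e0e87627978e26b3513096582b918cc54211487e632f8f89a5a2c8ec7448239588a352194c6440289385c3c25124562a1b8d88828199044a30178f4422c1c8e03e340f098621a118885a171489c2a1c0d8902418100583a0f0986422100a0381a0c058281208038180a04018040400 (Nat.mul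 9 (Nat.land i 511))) 511
end Cfsg.Agent.Lib.Helper6.TCD.O73a
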